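import Cfsg.Agent.H3.VecModel

/-! Generated permutation table, new letters and stabiliser chain. -/

set_option autoImplicit false
set_option maxRecDepth 100000

open Cfsg.Agent.L0

namespace Cfsg.Agent.H3.SL29

noncomputable def Trowt0 : BT := .leaf (nat_lit 0x913e7b29f3e2bf82ed34c79366a49b35c439c89b416d1229f64ae34268a943192c214962e9934613dd286ab16bf306d5468d2a34676a95ce392d732546659752d9f98989dba874e6549689e608293934080860408e993b59d0d2be7c59f3e629579b26692357334f299cbd2453e4d1c89249a42848d4b72af11387131c38728514222b8fcc4d2e1947e791c7785843a630644a388108e5c4a7cb392220f372653d60d0d3150364c85e7cd2f76f4cb36f110223a64d861b1d61832b238e565e5ab1f1651c2f1a2c43059e4318e4a4a90161304e521a782fd0ce2901fb62c4cfbe7a4269a26f083b2454b3a72d66125ce05b780449266ecd02e228198b96ec8365e947bc2a0da8c0c74ead3a747451ecd5327a3a3b114b46907ac122f883472e5ab21c71aa560a183e20256a9f0c6a954a32ae461546782c16ca13a616f5d814a91d0b668d12120dc58442802244a44d1f06ad91e2e7198a5870d9960b451a32601293c5cb150289013244401b302470d142448012260860ed01850e10287022168308744025008414001c88104403863c2008f0c00b800c30284261c00b080c4850628101)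

noncomputable def Trowtree : BT := Trowt0

noncomputable def Trow : ℕ → ℕ := rowOf Trowtree (nat_lit 7) (nat_lit 127) (nat_lit 42) (nat_lit 0x3ffffffffff)

noncomputable def T : ℕ → ℕ → ℕ := pT Trow (nat_lit 7) (nat_lit 127)

/-- definitions of the new letters -/
def D : List (List ℕ) := [[nat_lit 0, nat_lit 3],
  [nat_lit 1, nat_lit 4],
  [nat_lit 2, nat_lit 5]]

/-- the relators -/
def R : List (List ℕ) := [[nat_lit 0, nat_lit 3],
  [nat_lit 1, nat_lit 4],
  [nat_lit 2, nat_lit 5],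
  [nat_lit 3, nat_lit 0],
  [nat_lit 4, nat_lit 1],
  [nat_lit 5, nat_lit 2],
  [nat_lit 0, nat_lit 0, nat_lit 0],
  [nat_lit 1, nat_lit 1, nat_lit 1],
  [nat_lit 1, nat_lit 0, nat_lit 4, nat_lit 3],
  [nat_lit 2, nat_lit 0, nat_lit 5, nat_lit 4, nat_lit 2, nat_lit 1, nat_lit 2, nat_lit 3],
  [nat_lit 2, nat_lit 0, nat_lit 4, nat_lit 2, nat_lit 1, nat_lit 3, nat_lit 5, nat_lit 1, nat_lit 3],
  [nat_lit 2, nat_lit 0, nat_lit 2, nat_lit 0, nat_lit 2, nat_lit 4, nat_lit 3, nat_lit 5, nat_lit 4, nat_lit 3]]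

/-- the base -/
def B : List ℕ := [nat_lit 9, nat_lit 0]

/-- the base known in advance -/
def Bf : List ℕ := [nat_lit 0, nat_lit 1]

noncomputable def dchkf : ℕ → Bool := defChk T (nat_lit 80) D

noncomputable def info1t0 : BT := .leaf (nat_lit 0x9985b4760)

noncomputable def info1tree : BT := info1t0

noncomputable def info1 : ℕ → ℕ := rowOf info1tree (nat_lit 4) (nat_lit 15) (nat_lit 4) (nat_lit 0xf)

def S1 : List (List ℕ) := [[nat_lit 0],
  [nat_lit 1],
  [nat_lit 3],
  [nat_lit 4]]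

noncomputable def lev1f : ℕ → Bool := RAct.levI T S1 info1 (nat_lit 3) (nat_lit 2) (nat_lit 0) (nat_lit 9) (nat_lit 0)

noncomputable def info0t0 : BT := .leaf (nat_lit 0xaaaaa4a2192066d8606a48ad96d6a182a8eda609256a075a8e565892375a923923b61820ada95d45d7106a48dd6a48a57544dd74a01965845c4144cd)

noncomputable def info0tree : BT := info0t0

noncomputable def info0 : ℕ → ℕ := rowOf info0tree (nat_lit 7) (nat_lit 127) (nat_lit 6) (nat_lit 0x3f)

def S0 : List (List ℕ) := [[nat_lit 0],
  [nat_lit 1],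
  [nat_lit 2],
  [nat_lit 3],
  [nat_lit 4],
  [nat_lit 5]]

noncomputable def lev0f : ℕ → Bool := RAct.levI T S0 info0 (nat_lit 7) (nat_lit 3) (nat_lit 0) (nat_lit 80) (nat_lit 9)

theorem dchkb0 : allR dchkf 7 0 = true := by decide +kernel
theorem lev1b0 : allR lev1f 4 0 = true := by decide +kernel
theorem lev0b0 : allR lev0f 7 0 = true := by decide +kernel

theorem dchk : ∀ c < 80, dchkf c = true := fun c hc =>
  allR_glue (d := 7) (n := 1) (forall_lt_succ' forall_lt_zero' dchkb0) c (lt_of_lt_of_le hc (by norm_num))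

theorem lev1 : ∀ c < 9, lev1f c = true := fun c hc =>
  allR_glue (d := 4) (n := 1) (forall_lt_succ' forall_lt_zero' lev1b0) c (lt_of_lt_of_le hc (by norm_num))

theorem lev0 : ∀ c < 80, lev0f c = true := fun c hc =>
  allR_glue (d := 7) (n := 1) (forall_lt_succ' forall_lt_zero' lev0b0) c (lt_of_lt_of_le hc (by norm_num))

theorem ext {G : Type*} [Group G] {A : RAct G 80} {g : ℕ → G} (h : A.Tab g 3 T) :
    ∃ g' : ℕ → G, (∀ i < 3, g' i = g i) ∧ A.Tab g' 6 T ∧
      genL g' (List.range 6) = genL g (List.range 3) :=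
  tab_extend' h (D := D) (by decide +kernel) (by decide +kernel) le_rfl dchk

/-- the levels -/
def L : List (ℕ × ℕ × ℕ) := [(nat_lit 9, nat_lit 0, nat_lit 80), (nat_lit 0, nat_lit 0, nat_lit 9)]

theorem chain {G : Type*} [Group G] {A : RAct G 80} {x : ℕ → G} (h : A.Tab x 6 T) :
    A.Chain ⊤ [] (ivl L) :=
  chain_cons h (by decide +kernel) lev0
    (chain_cons h (by decide +kernel) lev1
    (chain_nil))

end Cfsg.Agent.H3.SL29
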