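import Cfsg.Agent.L0.PcCert
import Cfsg.Agent.L0.Dw
import Cfsg.Agent.H3.Mu.SL29.Tab

/-! Generated certificate: the `2`-part of a Schur multiplier. -/

set_option autoImplicit false
set_option maxRecDepth 100000

open Cfsg.Agent.L0

namespace Cfsg.Agent.H3.SL29.P2

noncomputable def W : List (List ℕ) := [
  dw (nat_lit 3) (nat_lit 7) (nat_lit 4) (nat_lit 0x162),
  dw (nat_lit 3) (nat_lit 7) (nat_lit 4) (nat_lit 0x345),
  dw (nat_lit 3) (nat_lit 7) (nat_lit 6) (nat_lit 0x2759),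
  dw (nat_lit 3) (nat_lit 7) (nat_lit 6) (nat_lit 0x2c160),
  dw (nat_lit 3) (nat_lit 7) (nat_lit 4) (nat_lit 0x514),
  dw (nat_lit 3) (nat_lit 7) (nat_lit 6) (nat_lit 0x2210)]

noncomputable def P : PcP := ⟨nat_lit 2, nat_lit 1, nat_lit 3, nat_lit 0x111123271, nat_lit 4, nat_lit 15, nat_lit 9, nat_lit 511, nat_lit 2, nat_lit 16, nat_lit 4, nat_lit 5⟩

noncomputable def fu : Fus := ⟨[nat_lit 8, nat_lit 2, nat_lit 1, nat_lit 15, nat_lit 2, nat_lit 1],
  [nat_lit 3, nat_lit 9, nat_lit 1, nat_lit 13, nat_lit 15, nat_lit 1],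
  [nat_lit 4, nat_lit 4, nat_lit 4, nat_lit 5, nat_lit 5, nat_lit 5]⟩

noncomputable def lam : List ℕ := [nat_lit 0x0,
  nat_lit 0x0,
  nat_lit 0x201,
  nat_lit 0x1]

noncomputable def bs : List ℕ := []

noncomputable def mo : List ℕ := []

noncomputable def cv0 : List ℕ := [nat_lit 0x40000000000000,
  nat_lit 0x1000000000,
  nat_lit 0x1000000000000000000,
  nat_lit 0x8000000000000000,
  nat_lit 0x201000040000000000000,
  nat_lit 0x200008000201008000000,
  nat_lit 0x1000000201000000200000000001,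
  nat_lit 0x1000000201000040000000000000,
  nat_lit 0x8000000000000200000040200008040201,
  nat_lit 0x8000000000000201000000201008000000]

noncomputable def cc0 : List Con := [
  ⟨nat_lit 1, nat_lit 0, nat_lit 0, [nat_lit 8], [], nthN cv0 (nat_lit 0)⟩,
  ⟨nat_lit 1, nat_lit 1, nat_lit 1, [nat_lit 4], [], nthN cv0 (nat_lit 1)⟩,
  ⟨nat_lit 1, nat_lit 2, nat_lit 2, [nat_lit 2], [], nthN cv0 (nat_lit 2)⟩,
  ⟨nat_lit 0, nat_lit 1, nat_lit 2, [nat_lit 2], [], nthN cv0 (nat_lit 3)⟩,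
  ⟨nat_lit 0, nat_lit 0, nat_lit 2, [nat_lit 2], [], nthN cv0 (nat_lit 4)⟩,
  ⟨nat_lit 0, nat_lit 0, nat_lit 1, [nat_lit 4], [], nthN cv0 (nat_lit 5)⟩,
  ⟨nat_lit 2, nat_lit 4, nat_lit 0, [nat_lit 0, nat_lit 0], [nat_lit 2], nthN cv0 (nat_lit 6)⟩,
  ⟨nat_lit 2, nat_lit 4, nat_lit 0, [nat_lit 1, nat_lit 0], [nat_lit 0, nat_lit 1, nat_lit 2], nthN cv0 (nat_lit 7)⟩,
  ⟨nat_lit 2, nat_lit 5, nat_lit 0, [nat_lit 4, nat_lit 4], [nat_lit 5], nthN cv0 (nat_lit 8)⟩,
  ⟨nat_lit 2, nat_lit 5, nat_lit 0, [nat_lit 3, nat_lit 3], [nat_lit 5], nthN cv0 (nat_lit 9)⟩]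

theorem con0 : allL cc0 (P.conOk fu) = true := by decide +kernel

noncomputable def CV : List (List ℕ) := [cv0]

noncomputable def MU : List (List ℕ) := [[nat_lit 0],
  [nat_lit 0,
  nat_lit 0x307],
  [nat_lit 0xfe,
  nat_lit 0x2,
  nat_lit 0xc1],
  [nat_lit 0x1,
  nat_lit 0x8,
  nat_lit 0x4,
  nat_lit 0x15]]

noncomputable def lv : List (List (List ℕ) × ℕ × List (ℕ × List ℕ)) := [
  ([[nat_lit 0], [nat_lit 1], [nat_lit 2], [nat_lit 3]], nat_lit 0, [(nat_lit 0, []), (nat_lit 8, [nat_lit 2, nat_lit 1]), (nat_lit 11, [nat_lit 2, nat_lit 0]), (nat_lit 12, [nat_lit 0]), (nat_lit 14, [nat_lit 3, nat_lit 2, nat_lit 1]), (nat_lit 19, [nat_lit 3, nat_lit 1, nat_lit 0]), (nat_lit 26, [nat_lit 3, nat_lit 0]), (nat_lit 28, [nat_lit 2]), (nat_lit 33, [nat_lit 0, nat_lit 1]), (nat_lit 45, [nat_lit 3]), (nat_lit 52, [nat_lit 3, nat_lit 2]), (nat_lit 53, [nat_lit 1, nat_lit 0]), (nat_lit 63, [nat_lit 0, nat_lit 2]), (nat_lit 66, [nat_lit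 3, nat_lit 1]), (nat_lit 75, [nat_lit 1]), (nat_lit 76, [nat_lit 2, nat_lit 1, nat_lit 0])])]

theorem rel0 : P.relRow (dT T W) B 0 = true := by decide +kernel
theorem rel1 : P.relRow (dT T W) B 1 = true := by decide +kernel
theorem rel2 : P.relRow (dT T W) B 2 = true := by decide +kernel
theorem rel3 : P.relRow (dT T W) B 3 = true := by decide +kernel
theorem fus0 : P.fusOk (dT T W) B fu 0 = true := by decide +kernel
theorem fus1 : P.fusOk (dT T W) B fu 1 = true := by decide +kernel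
theorem fus2 : P.fusOk (dT T W) B fu 2 = true := by decide +kernel
theorem fus3 : P.fusOk (dT T W) B fu 3 = true := by decide +kernel
theorem fus4 : P.fusOk (dT T W) B fu 4 = true := by decide +kernel
theorem fus5 : P.fusOk (dT T W) B fu 5 = true := by decide +kernel
theorem fin0 : P.finRow lam (bs :: CV) MU 0 = true := by decide +kernel
theorem fin1 : P.finRow lam (bs :: CV) MU 1 = true := by decide +kernel
theorem fin2 : P.finRow lam (bs :: CV) MU 2 = true := by decide +kernel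
theorem fin3 : P.finRow lam (bs :: CV) MU 3 = true := by decide +kernel

theorem pm {G : Type*} [Group G] [Finite G] {A : RAct G 80} {g : ℕ → G} (hb : A.IsBase B)
    (h : A.Tab g 6 T) (ho : Nat.card G = 720) : PMult G 2 0 0 :=
  pmult_of_tab hb h ho P (show Nat.Prime 2 by norm_num) W fu 0 lam bs mo [cc0] CV MU lv 6
    (by decide +kernel) (forall_lt_succ' (forall_lt_succ' (forall_lt_succ' (forall_lt_succ' forall_lt_zero' rel0) rel1) rel2) rel3) (by decide +kernel)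
    (forall_lt_succ' (forall_lt_succ' (forall_lt_succ' (forall_lt_succ' (forall_lt_succ' (forall_lt_succ' forall_lt_zero' fus0) fus1) fus2) fus3) fus4) fus5)
    (by decide +kernel) (by decide +kernel) (by decide +kernel) (by decide +kernel)
    (List.forall_mem_cons.mpr ⟨con0, (by simp)⟩)
    (forall_lt_succ' (forall_lt_succ' (forall_lt_succ' (forall_lt_succ' forall_lt_zero' fin0) fin1) fin2) fin3) (by decide +kernel)

end Cfsg.Agent.H3.SL29.P2
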