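import Cfsg.Agent.L0.CosetChain

/-! Generated coset table certificate. -/

set_option autoImplicit false
set_option maxRecDepth 100000

open Cfsg.Agent.L0

namespace Cfsg.Agent.H3.SL29.Tc0

noncomputable def t0 : BT := .node (.node (.node (.node (.leaf (nat_lit 0x1b001a208300190018310a42408005c8614c4500058820886392901001500142184001341112082484040048820800440040c41d44311101000f000e2082000d000c3106424048a08002c0028820400240020b10020810007000652030005000426400000c400440040008400440040000)) (.leaf (nat_lit 0x2bc7273b293f20a62a332b3aac494829892b09ab52d218b0896d699252442284131a8573a20a5233daa490d738a4ac8290ace5a0f8a8aa8923254920a151cc232838b965348448082815adcb0e09cd50b320686191f32ba2347209f43c623ac24b682478b540a294e299e8dd1f18827a211d))) (.leaf (nat_lit 0x32c421a6713d0049208d22468a430889c88f48894c69c9c788236210c0048208d861e004731282941844309c90011886348230e104c69e310b208c47a92b2a36a5491900458642c8c888aa8def8822c863c9e65b10a208b223f373c42a3511b383366428a87cdee4890c82280110ace1b109)))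 (.node (.leaf (nat_lit 0x25b120882189003d311a319d6441cda5800f000ec821c00e89a6db106208756340039271700380037664188c4c00d88ab0821800d48641b10500342211318e0033208621876a414821896c000c8ca5492490471990529104413003120850030002f6c41104688618883000b8c6508215a104)) (.leaf (nat_lit 0x2cb820964aa14c382bb43bc384454ab04a130825801409d0cc4e60915262921b5344249ca2095351f8a4511b0c8254d51c8e80c4d946b611143a333b3825c42094269635cc8c44c82516720a288aad0eaedd0f21913004f27ce221c823b26b120938844914f4d8c886bd54610538824a2111)))) (.node (.node (.node (.leaf (nat_lit 0x2085241f61153892002d002c66410d635048c00ac821000a800a5b103218e218c3107610e208422146a40c821000a0009c983c0099849599030025208421850024310e31916440c008c8624c4800088820c86692902002100202188001f411d2083484080078820c00740070c42d44611102)) (.leaf (nat_lit 0x20b75cd02c503cc12d504bd0a64d8a8ed1d3d2b3c82c89f3cad3eb13128b921b138402645373220b0a84bc82bcb134a934eaf1ef352736992e29402343263420ab37b72244ac4a882a9372cb12cf2b4b92d2f2e99292a3648ca59ca20a9294a2a4aac4a082a0972493265311952511269927)))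 (.leaf (nat_lit 0x2ab02092004e3a303513394084444a0f0d47082480134d900c4c609112091562e25ae361a26ae452e86440b52c824088d52aa8987cd91e110f232c5342209082ac344732158243c0130daf886a56500e314823e210e2b2d208f49c5004b32233aa48443801289a64823cd6d8a090c4ae090e))) (.node (.leaf (nat_lit 0x5335221d319a0043208a218b6a4248228d6b496d926850e4001099909299c66a70041208946bd26a66c4208674862888614474c6808225a108208900402193691e25af31b266420a2648688d85c822000fcdcedb10726ae2198310b2191208822206a41c8220a690dc8da06d58a400f99907)) (.leaf (nat_lit 0x29ab26af29b058cc209c28ce8a46cdefc826d54e8a0fcc689a322111a293e28c5209978be272b28238246082609c78cb1896c5069c86a219172b4d21ba24b337af209727a28a4588ac8accc9e6d273d5b20825e211627c620973ac82342313c25bf84458eb14a51086dd2138a084825a2115))))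

noncomputable def tree : BT := t0

noncomputable def row : ℕ → ℕ := rowOf tree (nat_lit 3) (nat_lit 7) (nat_lit 114) (nat_lit 0x3ffffffffffffffffffffffffffff)

noncomputable def cols : List Col := [⟨nat_lit 18, nat_lit 1, [([nat_lit 66], nat_lit 0), ([nat_lit 18, nat_lit 18], nat_lit 0), ([nat_lit 98, nat_lit 82, nat_lit 50, nat_lit 34, nat_lit 50, nat_lit 66, nat_lit 50], nat_lit 0), ([nat_lit 82, nat_lit 66, nat_lit 34], nat_lit 0), ([nat_lit 50, nat_lit 82, nat_lit 66, nat_lit 98, nat_lit 82, nat_lit 66, nat_lit 50, nat_lit 18, nat_lit 50], nat_lit 0), ([nat_lit 82, nat_lit 50, nat_lit 34, nat_lit 66, nat_lit 98, nat_lit 34, nat_lit 66, nat_lit 50], nat_lit 0), ([nat_lit 50, nat_lit 18, nat_lit 50, nat_lit 82, nat_lit 66, nat_lit 98, nat_lit 82, nat_lit 66, nat_lit 50], nat_lit 0)]⟩,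
  ⟨nat_lit 34, nat_lit 1, [([nat_lit 82], nat_lit 0), ([nat_lit 34, nat_lit 34], nat_lit 0), ([nat_lit 18, nat_lit 82, nat_lit 66], nat_lit 0), ([nat_lit 50, nat_lit 66, nat_lit 50, nat_lit 18, nat_lit 98, nat_lit 82, nat_lit 50], nat_lit 0), ([nat_lit 66, nat_lit 98, nat_lit 34, nat_lit 66, nat_lit 50, nat_lit 18, nat_lit 82, nat_lit 50], nat_lit 0), ([nat_lit 66, nat_lit 50, nat_lit 18, nat_lit 82, nat_lit 50, nat_lit 34, nat_lit 66, nat_lit 98], nat_lit 0)]⟩,
  ⟨nat_lit 50, nat_lit 0, [([nat_lit 98], nat_lit 0), ([nat_lit 18, nat_lit 98, nat_lit 82, nat_lit 50, nat_lit 34, nat_lit 50, nat_lit 66], nat_lit 0), ([nat_lit 34, nat_lit 50, nat_lit 66, nat_lit 50, nat_lit 18, nat_lit 98, nat_lit 82], nat_lit 0), ([nat_lit 18, nat_lit 82, nat_lit 50, nat_lit 34, nat_lit 66, nat_lit 98, nat_lit 34, nat_lit 66], nat_lit 0), ([nat_lit 34, nat_lit 66, nat_lit 98, nat_lit 34, nat_lit 66, nat_lit 50, nat_lit 18, nat_lit 82], nat_lit 0), ([nat_lit 66,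 nat_lit 50, nat_lit 18, nat_lit 98, nat_lit 82, nat_lit 50, nat_lit 34], nat_lit 0), ([nat_lit 18, nat_lit 50, nat_lit 82, nat_lit 66, nat_lit 98, nat_lit 82, nat_lit 66, nat_lit 50, nat_lit 18], nat_lit 0), ([nat_lit 82, nat_lit 66, nat_lit 98, nat_lit 82, nat_lit 66, nat_lit 50, nat_lit 18, nat_lit 50, nat_lit 18], nat_lit 0)]⟩,
  ⟨nat_lit 66, nat_lit 1, [([nat_lit 18], nat_lit 0), ([nat_lit 34, nat_lit 18, nat_lit 82], nat_lit 0), ([nat_lit 98, nat_lit 34, nat_lit 66, nat_lit 50, nat_lit 18, nat_lit 82, nat_lit 50, nat_lit 34], nat_lit 0), ([nat_lit 50, nat_lit 18, nat_lit 82, nat_lit 50, nat_lit 34, nat_lit 66, nat_lit 98, nat_lit 34], nat_lit 0), ([nat_lit 50, nat_lit 18, nat_lit 98, nat_lit 82, nat_lit 50, nat_lit 34, nat_lit 50], nat_lit 0), ([nat_lit 98, nat_lit 82, nat_lit 66, nat_lit 50, nat_lit 18, nat_lit 50, nat_lit 18, nat_lit 50, nat_lit 82], nat_lit 0), ([nat_lit 50, nat_lit 18, nat_lit 50, nat_lit 18, nat_lit 50, nat_lit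 82, nat_lit 66, nat_lit 98, nat_lit 82], nat_lit 0)]⟩,
  ⟨nat_lit 82, nat_lit 1, [([nat_lit 34], nat_lit 0), ([nat_lit 66, nat_lit 34, nat_lit 18], nat_lit 0), ([nat_lit 50, nat_lit 34, nat_lit 50, nat_lit 66, nat_lit 50, nat_lit 18, nat_lit 98], nat_lit 0), ([nat_lit 66, nat_lit 98, nat_lit 82, nat_lit 66, nat_lit 50, nat_lit 18, nat_lit 50, nat_lit 18, nat_lit 50], nat_lit 0), ([nat_lit 66, nat_lit 50, nat_lit 18, nat_lit 50, nat_lit 18, nat_lit 50, nat_lit 82, nat_lit 66, nat_lit 98], nat_lit 0)]⟩,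
  ⟨nat_lit 98, nat_lit 0, [([nat_lit 50], nat_lit 0), ([nat_lit 82, nat_lit 50, nat_lit 34, nat_lit 50, nat_lit 66, nat_lit 50, nat_lit 18], nat_lit 0), ([nat_lit 34, nat_lit 66, nat_lit 50, nat_lit 18, nat_lit 82, nat_lit 50, nat_lit 34, nat_lit 66], nat_lit 0), ([nat_lit 82, nat_lit 66, nat_lit 50, nat_lit 18, nat_lit 50, nat_lit 18, nat_lit 50, nat_lit 82, nat_lit 66], nat_lit 0)]⟩]

noncomputable def erots : List (List ℕ × ℕ) := []

noncomputable def gens : List ℕ := [nat_lit 18, nat_lit 34, nat_lit 50, nat_lit 66, nat_lit 82, nat_lit 98]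

noncomputable def chk : ℕ → Bool := chkRow0 row (nat_lit 80) (nat_lit 0x7f) (nat_lit 0xf80) (nat_lit 12) (nat_lit 0xf) (nat_lit 0) (nat_lit 0x7f) (nat_lit 7) (nat_lit 0xff) (nat_lit 0x38000) [] cols gens

theorem b0 : allR chk 7 0 = true := by decide +kernel

noncomputable def T : CT := ⟨row, nat_lit 80, nat_lit 80, nat_lit 0x7f, nat_lit 0xf80, nat_lit 12, nat_lit 0xf, nat_lit 0, nat_lit 0x7f, nat_lit 7, nat_lit 0xff, nat_lit 0x38000, nat_lit 114, nat_lit 114, nat_lit 0, nat_lit 10, [], cols, erots, gens⟩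

theorem all : ∀ c < 80, chk c = true := fun c hc =>
  allR_glue (d := 7) (n := 1) (forall_lt_succ' forall_lt_zero' b0) c (lt_of_lt_of_le hc (by norm_num))

/-- the relators used -/
def R : List (List ℕ) := [[nat_lit 0, nat_lit 3],
  [nat_lit 1, nat_lit 4],
  [nat_lit 2, nat_lit 5],
  [nat_lit 0, nat_lit 0, nat_lit 0],
  [nat_lit 1, nat_lit 1, nat_lit 1],
  [nat_lit 1, nat_lit 0, nat_lit 4, nat_lit 3],
  [nat_lit 2, nat_lit 0, nat_lit 5, nat_lit 4, nat_lit 2, nat_lit 1, nat_lit 2, nat_lit 3],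
  [nat_lit 2, nat_lit 0, nat_lit 4, nat_lit 2, nat_lit 1, nat_lit 3, nat_lit 5, nat_lit 1, nat_lit 3],
  [nat_lit 2, nat_lit 0, nat_lit 2, nat_lit 0, nat_lit 2, nat_lit 4, nat_lit 3, nat_lit 5, nat_lit 4, nat_lit 3]]

theorem cert : Cert T (R.map fun r => (r, 0)) ([0, 1, 3, 4].map fun y => (y, 0)) 18 16 [0, 1, 2, 3, 4, 5] :=
  ⟨by decide +kernel, ⟨[[(0, 0), (3, 0), (6, 1), (5, 1), (8, 3), (7, 1), (8, 1)], [(1, 0), (4, 0), (5, 0), (6, 5), (7, 4), (7, 7)], [(2, 0), (6, 0), (6, 4), (7, 0), (7, 3), (6, 6), (8, 2), (8, 4)], [(0, 1), (5, 3), (7, 5), (7, 8), (6, 7), (8, 6), (8, 9)], [(1, 1), (5, 2), (6, 3), (8, 5), (8, 8)], [(2, 1), (6, 2), (7, 6), (8, 7)]], [], by decide +kernel⟩, by decide +kernel, Or.inl ⟨rfl, all⟩⟩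

theorem bound {Γ : Type*} [Group Γ] {x : ℕ → Γ} (hR : ∀ r ∈ R, ev x r = 1) {n : ℕ}
    (h : CardLe x [0, 1, 3, 4] n) : CardLe x [0, 1, 2, 3, 4, 5] (80 * n) :=
  cert.cardLe rfl hR h

end Cfsg.Agent.H3.SL29.Tc0
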