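import Cfsg.Agent.H3.Mu.SL29.Tab
import Cfsg.Agent.H3.Fld

/-! Generated vectors and matrices. -/

set_option autoImplicit false
set_option maxRecDepth 100000

open Cfsg.Agent.L0

namespace Cfsg.Agent.H3.SL29

open Vec

noncomputable def Vt0 : BT := .leaf (nat_lit 0x20101020002000002020102020000010001000201020002000000020201010102010000010200010002000101010102010200020002010201010000010001020201000001010200010001000202020000020002000101000002000002000201000201020001010002010002010102010202000102010002010000020200020000000201010101010002010100000001000000010102010001020002020201020000010201000200010102000202010000010201020002010100020100000200000101000200000000020001020201010100020002000101010101010102000101000100010101000000010202020200010202010001020102010200020100010200010102020101020001000100020101020101000100000001020201010202000002020002020202020202020102020200020201000202010202020001)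

noncomputable def Vtree : BT := Vt0

noncomputable def V : ℕ → ℕ := rowOf Vtree (nat_lit 7) (nat_lit 127) (nat_lit 32) (nat_lit 0xffffffff)

noncomputable def St0 : BT := .leaf (nat_lit 0xa1018110083000ecc8a216b90b72481210344d2bd767d7947f321c14d39b271d1c698326d68a58f1a9e525863946554486129a3184ea49c643d5442f165ab9b3dc467d00e89)

noncomputable def Stree : BT := St0

noncomputable def S : ℕ → ℕ := rowOf Stree (nat_lit 7) (nat_lit 127) (nat_lit 7) (nat_lit 0x7f)

/-- the format -/
abbrev P : Fm := ⟨3, 8, 2, 2⟩

def Cs : List (List ℕ) := [[nat_lit 0x1, nat_lit 0x100, nat_lit 0x10001, nat_lit 0x1000100],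
  [nat_lit 0x1, nat_lit 0x100, nat_lit 0x10100, nat_lit 0x1000002],
  [nat_lit 0x1010001, nat_lit 0x1020100, nat_lit 0x10000, nat_lit 0x1000000]]

def CU : List ℕ := [nat_lit 0x2020001, nat_lit 0x2010100, nat_lit 0x2020102, nat_lit 0x2010202]

def CW : List ℕ := [nat_lit 0x1020201, nat_lit 0x1000101]

def CI : List ℕ := [nat_lit 0x1, nat_lit 0x100, nat_lit 0x10000, nat_lit 0x1000000]

def Bs : List ℕ := [nat_lit 0, nat_lit 1]

def Ss : List (List ℕ) := [[nat_lit 0x1, nat_lit 0x100, nat_lit 0x10000, nat_lit 0x1000000]]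

theorem odd : OddOK P 255 6 0x3f3f3f3f := oddOK_of (by decide +kernel)

noncomputable def E : List ℕ → ℕ → ℕ → Bool := anyE (rE (nat_lit 3) (nat_lit 2) (nat_lit 8) (nat_lit 255) (nat_lit 0x3f3f3f3f)) Ss

noncomputable def ok : ℕ → Bool := valid P

noncomputable def vchkf : ℕ → Bool := rowChk ok E Cs [nat_lit 0, nat_lit 1, nat_lit 2] V T (nat_lit 80)

noncomputable def schkf : ℕ → Bool := sortB V S (nat_lit 80)

theorem vchkb0 : allR vchkf 7 0 = true := by decide +kernel
theorem schkb0 : allR schkf 7 0 = true := by decide +kernel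

theorem vchk : ∀ c < 80, vchkf c = true := fun c hc =>
  allR_glue (d := 7) (n := 1) (forall_lt_succ' forall_lt_zero' vchkb0) c (lt_of_lt_of_le hc (by norm_num))

theorem schk : ∀ c < 80, schkf c = true := fun c hc =>
  allR_glue (d := 7) (n := 1) (forall_lt_succ' forall_lt_zero' schkb0) c (lt_of_lt_of_le hc (by norm_num))

theorem data : Vec.VecData P ok E Cs 3 80 T Bs CU CI :=
  ⟨V, S, CW, vchk, schk, by decide +kernel⟩

/-- the numbering of the coordinates -/
def e : Fin 2 ≃ Fin P.n := Equiv.refl _

/-- the matrices -/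
noncomputable def M (i : ℕ) : Matrix (Fin 2) (Fin 2) (R9) := Vec.mat P e (qw 3 2 0) (nthW Cs i)

theorem cod : Vec.AllCod P e (qw 3 2 0) Cs 3 CU CI :=
  ⟨by decide +kernel, by decide +kernel, by decide +kernel⟩

theorem snd {F : Type*} [Field F] {φ : R9 →+* F} (h : Emb φ 3 2 (qw 3 2 0)) :
    Vec.SoundL P e (φ (qw 3 2 0)) ⊥ E :=
  Vec.soundL_bot φ (Vec.sound_rE odd h.char) (by decide) (by decide +kernel)

theorem adm {F : Type*} [Field F] {φ : R9 →+* F} (h : Emb φ 3 2 (qw 3 2 0)) :
    Vec.Adm P e (φ (qw 3 2 0)) ⊥ ok :=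
  Vec.adm_valid (by decide) (by decide) h.indep

theorem model {F : Type*} [Field F] {φ : R9 →+* F} (h : Emb φ 3 2 (qw 3 2 0))
    {G : Type*} [Group G] (ρ : G →* Matrix (Fin 2) (Fin 2) F) (hρ : Function.Injective ρ)
    (hg : ∀ i < 3, ∃ x, ρ x = (M i).map φ) :
    ∃ K : Subgroup G, Model K 80 3 T Bs :=
  data.model' φ (by decide) (by decide) (adm h) (snd h) cod ρ hρ hg

end Cfsg.Agent.H3.SL29
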